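import Groth.Agent.EffDiv52.Weights

namespace Groth.Agent.EffDiv52

open Polynomial

variable {k : Type*} [Field k]

theorem all_of {q : k} {N : ℕ} (S : Submodule k k[X]) (h0 : degreeLE k ↑(N - 2) ≤ S)
    (h1 : (X - C q) ^ N ∈ S) (h2 : (X - C q) ^ (N - 1) ∈ S) : degreeLE k ↑N ≤ S := by
  intro G hG
  set G1 := G - G.coeff N • (X - C q) ^ N with hG1
  set G2 := G1 - G1.coeff (N - 1) • (X - C q) ^ (N - 1) with hG2
  have e : G = G2 + G1.coeff (N - 1) • (X - C q) ^ (N - 1) + G.coeff N • (X - C q) ^ N := by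
    rw [hG2, hG1]; abel
  rw [e]
  refine S.add_mem (S.add_mem (h0 ?_) (S.smul_mem _ h2)) (S.smul_mem _ h1)
  have hmon : ∀ t, ((X - C q) ^ t).coeff t = 1 ∧ ∀ s, t < s → ((X - C q) ^ t).coeff s = 0 := fun t =>
    ⟨by
      have := ((monic_X_sub_C q).pow t).coeff_natDegree
      rwa [natDegree_pow, natDegree_X_sub_C, mul_one] at this,
    fun s hs => coeff_eq_zero_of_natDegree_lt (by rwa [natDegree_pow, natDegree_X_sub_C, mul_one])⟩
  rw [mem_degreeLE, ← natDegree_le_iff_degree_le] at hG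
  have hc1 : ∀ s, N - 1 < s → G1.coeff s = 0 := by
    intro s hs
    rw [hG1, coeff_sub, coeff_smul, smul_eq_mul]
    rcases eq_or_lt_of_le (show N ≤ s by omega) with rfl | h
    · rw [(hmon _).1]; ring
    · rw [(hmon _).2 s h, coeff_eq_zero_of_natDegree_lt (lt_of_le_of_lt hG h)]; ring
  rw [mem_degreeLE, ← natDegree_le_iff_degree_le, natDegree_le_iff_coeff_eq_zero]
  intro s hs
  rw [hG2, coeff_sub, coeff_smul, smul_eq_mul]
  rcases lt_trichotomy s (N - 1) with h | h | h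
  · omega
  · rw [h, (hmon _).1]; ring
  · rw [(hmon _).2 s h, hc1 s h]; ring

variable [CharZero k] {m : ℕ} {r : Fin m → k} {a : Fin m → ℕ} {b : ℕ} (hr : Function.Injective r)

theorem pow_mem_degreeLE (q : k) {t N : ℕ} (h : t ≤ N) : (X - C q) ^ t ∈ degreeLE k (N : WithBot ℕ) := by
  rw [mem_degreeLE, ← natDegree_le_iff_degree_le, natDegree_pow, natDegree_X_sub_C, mul_one]
  exact h

include hr

theorem fin_genV : FiniteDimensional k (genV r a b) := by
  haveI := fin_degreeLE (k := k) ((∑ j, a j) + b)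
  rw [gen_eq a b hr]
  infer_instance

theorem Φ_mem {G : k[X]} (hG : G ∈ degreeLE k ↑((∑ j, a j) + b)) : Φ r a G ∈ genV r a b := by
  rw [gen_eq a b hr]
  exact ⟨G, hG, rfl⟩

theorem low_le {V₁ : Submodule k k[X]} (hU : genV r a (b - 2) ≤ V₁) :
    degreeLE k ↑((∑ j, a j) + b - 2) ≤ V₁.comap (Φ r a) := by
  rw [gen_eq a (b - 2) hr] at hU
  refine le_trans (degreeLE_mono ?_) (Submodule.map_le_iff_le_comap.mp hU)
  exact_mod_cast (by omega : (∑ j, a j) + b - 2 ≤ (∑ j, a j) + (b - 2))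

theorem pencil_hyperplane {V₁ : Submodule k k[X]} (hV₁ : V₁ ≤ genV r a b) (hfin : Module.finrank k V₁ + 1 = (∑ j, a j) + b)
    (hU : genV r a (b - 2) ≤ V₁) (q : k) :
    ¬ (Φ r a ((X - C q) ^ ((∑ j, a j) + b)) ∈ V₁ ∧ Φ r a ((X - C q) ^ ((∑ j, a j) + b - 1)) ∈ V₁) := by
  rintro ⟨h1, h2⟩
  have h := all_of (V₁.comap (Φ r a)) (low_le hr hU) h1 h2
  rw [← Submodule.map_le_iff_le_comap, ← gen_eq a b hr] at h
  haveI := fin_genV (a := a) (b := b) hr
  haveI : FiniteDimensional k V₁ := Submodule.finiteDimensional_of_le hV₁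
  have := Submodule.finrank_mono h
  rw [finrank_genV a b hr] at this
  omega

theorem pencil_evalCond {p : k} (hp : ∀ j, p ≠ r j) {q : k} (hpq : q ≠ p) (hN : 2 ≤ (∑ j, a j) + b) :
    ¬ ((Φ r a ((X - C q) ^ ((∑ j, a j) + b))).eval p = 0 ∧
      (Φ r a ((X - C q) ^ ((∑ j, a j) + b - 1))).eval p = 0) := by
  rintro ⟨h1, h2⟩
  obtain ⟨t, ht⟩ : ∃ t, (∑ j, a j) + b = t + 2 := ⟨(∑ j, a j) + b - 2, by omega⟩
  rw [ht] at h1 h2
  simp only [Φ_apply, derivative_pow, derivative_X_sub_C, mul_one, eval_sub, eval_mul, eval_pow, eval_X, eval_C,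
    show t + 2 - 1 = t + 1 from rfl, Nat.add_sub_cancel] at h1 h2
  set u := p - q with hu
  have hu0 : u ≠ 0 := sub_ne_zero.mpr hpq.symm
  have hL := L_eval_ne r hp
  set l := (L r).eval p
  set e := (E r a).eval p
  have e1 : u ^ (t + 1) * (((t + 2 : ℕ) : k) * l - e * u) = 0 := by linear_combination h1
  have e2 : u ^ t * (((t + 1 : ℕ) : k) * l - e * u) = 0 := by linear_combination h2
  have f1 := (mul_eq_zero.mp e1).resolve_left (pow_ne_zero _ hu0)
  have f2 := (mul_eq_zero.mp e2).resolve_left (pow_ne_zero _ hu0)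
  push_cast at f1 f2
  exact hL (by linear_combination f1 - f2)

theorem Φ_pow_mem_unmarked {q : k} (hq : ∀ j, q ≠ r j) {n t : ℕ} (hnt : n + 1 ≤ t)
    (htN : t ≤ (∑ j, a j) + b) : Φ r a ((X - C q) ^ t) ∈ genV r a b ⊓ multiples q n :=
  ⟨Φ_mem hr (pow_mem_degreeLE q htN), mem_multiples.mpr
    ((Φ_dvd_unmarked a hq (by simp [show t ≠ 0 by omega]) n).mpr (pow_dvd_pow _ hnt))⟩

theorem inter_top_eq {q : k} (hq : ∀ j, q ≠ r j) {V₁ : Submodule k k[X]} (hV₁ : V₁ ≤ genV r a b)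
    (h1 : Module.finrank k V₁ + 1 = (∑ j, a j) + b) (hne : V₁ ⊓ multiples q ((∑ j, a j) + b - 1) ≠ ⊥) :
    Φ r a ((X - C q) ^ ((∑ j, a j) + b)) ∈ V₁ := by
  haveI := fin_genV (a := a) (b := b) hr
  have hN := finrank_genV a b hr
  obtain ⟨hle, hlt⟩ := finrank_hyperplane (genV r a b) V₁ (multiples q ((∑ j, a j) + b - 1)) hV₁ (by omega)
  by_cases h : genV r a b ⊓ multiples q ((∑ j, a j) + b - 1) ≤ V₁
  · exact h (Φ_pow_mem_unmarked hr hq (by omega) le_rfl)
  · exfalso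
    have h2 := hlt h
    rw [finrank_unmarked a b hr hq] at h2
    apply hne
    haveI : FiniteDimensional k ↥(V₁ ⊓ multiples q ((∑ j, a j) + b - 1)) :=
      Submodule.finiteDimensional_of_le (inf_le_left.trans hV₁)
    exact Submodule.finrank_eq_zero.mp (by omega)

theorem simple_ramification {q : k} (hq : ∀ j, q ≠ r j) {V₁ : Submodule k k[X]} (hV₁ : V₁ ≤ genV r a b)
    (h1 : Module.finrank k V₁ + 1 = (∑ j, a j) + b)
    (hpen : 2 ≤ (∑ j, a j) + b → ¬ (Φ r a ((X - C q) ^ ((∑ j, a j) + b)) ∈ V₁ ∧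
      Φ r a ((X - C q) ^ ((∑ j, a j) + b - 1)) ∈ V₁)) :
    V₁ ⊓ multiples q ((∑ j, a j) + b) = ⊥ ∧
      Module.finrank k ↥(V₁ ⊓ multiples q ((∑ j, a j) + b - 2)) ≤ 1 := by
  haveI := fin_genV (a := a) (b := b) hr
  have hN := finrank_genV a b hr
  refine ⟨?_, ?_⟩
  · haveI : FiniteDimensional k ↥(genV r a b ⊓ multiples q ((∑ j, a j) + b)) :=
      Submodule.finiteDimensional_of_le inf_le_left
    have h0 := finrank_unmarked a b hr hq ((∑ j, a j) + b)
    rw [Nat.sub_self, Submodule.finrank_eq_zero] at h0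
    exact eq_bot_iff.mpr (h0 ▸ inf_le_inf_right _ hV₁)
  · rcases Nat.lt_or_ge ((∑ j, a j) + b) 2 with h | h
    · haveI : FiniteDimensional k V₁ := Submodule.finiteDimensional_of_le hV₁
      have := Submodule.finrank_mono (inf_le_left : V₁ ⊓ multiples q ((∑ j, a j) + b - 2) ≤ V₁)
      omega
    · obtain ⟨-, hlt⟩ := finrank_hyperplane (genV r a b) V₁ (multiples q ((∑ j, a j) + b - 2)) hV₁ (by omega)
      have := hlt fun hle => hpen h
        ⟨hle (Φ_pow_mem_unmarked hr hq (by omega) le_rfl),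
         hle (Φ_pow_mem_unmarked hr hq (by omega) (by omega))⟩
      rw [finrank_unmarked a b hr hq] at this
      omega

theorem unique_hyperplane {V₁ : Submodule k k[X]} (hV₁ : V₁ ≤ genV r a b)
    (h1 : Module.finrank k V₁ + 1 = (∑ j, a j) + b) (hU : genV r a (b - 2) ≤ V₁)
    {q q' : k} (hq : ∀ j, q ≠ r j) (hq' : ∀ j, q' ≠ r j)
    (hne : V₁ ⊓ multiples q ((∑ j, a j) + b - 1) ≠ ⊥) (hne' : V₁ ⊓ multiples q' ((∑ j, a j) + b - 1) ≠ ⊥) :
    q = q' := by
  set N := (∑ j, a j) + b with hN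
  by_contra hqq
  have hu := inter_top_eq hr hq hV₁ h1 hne
  have hu' := inter_top_eq hr hq' hV₁ h1 hne'
  refine pencil_hyperplane hr hV₁ h1 hU q ⟨hu, ?_⟩
  set c : k := (N : k) * (q' - q) with hc
  have hc0 : c ≠ 0 := mul_ne_zero (Nat.cast_ne_zero.mpr (by omega)) (sub_ne_zero.mpr (Ne.symm hqq))
  set D := (X - C q) ^ N - (X - C q') ^ N - c • (X - C q) ^ (N - 1) with hD
  have hco : ∀ (t : k) (s : ℕ), ((X - C t) ^ N).coeff s = (-t) ^ (N - s) * (N.choose s : k) := fun t s => by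
    rw [sub_eq_add_neg, ← C_neg, coeff_X_add_C_pow]
  have hDmem : D ∈ V₁.comap (Φ r a) := by
    refine low_le hr hU ?_
    rw [mem_degreeLE, ← natDegree_le_iff_degree_le, natDegree_le_iff_coeff_eq_zero]
    intro s hs
    rw [hD, coeff_sub, coeff_sub, coeff_smul, smul_eq_mul, hco, hco]
    rcases lt_trichotomy s (N - 1) with h | h | h
    · omega
    · subst h
      have hm : ((X - C q) ^ (N - 1)).coeff (N - 1) = 1 := by
        have := ((monic_X_sub_C q).pow (N - 1)).coeff_natDegree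
        rwa [natDegree_pow, natDegree_X_sub_C, mul_one] at this
      have hch : N.choose (N - 1) = N := by
        rw [Nat.choose_symm (by omega : 1 ≤ N), Nat.choose_one_right]
      rw [hm, hch, show N - (N - 1) = 1 by omega, hc]
      ring
    · rw [coeff_eq_zero_of_natDegree_lt (p := (X - C q) ^ (N - 1))
        (by rwa [natDegree_pow, natDegree_X_sub_C, mul_one])]
      rcases eq_or_lt_of_le (show N ≤ s by omega) with rfl | h'
      · simp
      · simp [Nat.choose_eq_zero_of_lt h']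
  rw [Submodule.mem_comap, hD, map_sub, map_sub, map_smul] at hDmem
  have hd2 : Φ r a ((X - C q) ^ N) - Φ r a ((X - C q') ^ N) ∈ V₁ := V₁.sub_mem hu hu'
  have := V₁.smul_mem c⁻¹ (V₁.sub_mem hd2 hDmem)
  rwa [sub_sub_cancel, inv_smul_smul₀ hc0] at this

theorem unique_evalCond {p : k} (hp : ∀ j, p ≠ r j) {q q' : k} (hqp : q ≠ p) (hq'p : q' ≠ p)
    (hN : 1 ≤ (∑ j, a j) + b) (h : (Φ r a ((X - C q) ^ ((∑ j, a j) + b))).eval p = 0)
    (h' : (Φ r a ((X - C q') ^ ((∑ j, a j) + b))).eval p = 0) : q = q' := by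
  obtain ⟨t, ht⟩ : ∃ t, (∑ j, a j) + b = t + 1 := ⟨(∑ j, a j) + b - 1, by omega⟩
  rw [ht] at h h'
  simp only [Φ_apply, derivative_pow, derivative_X_sub_C, mul_one, eval_sub, eval_mul, eval_pow, eval_X, eval_C,
    Nat.add_sub_cancel] at h h'
  set l := (L r).eval p with hl
  set e := (E r a).eval p
  have e1 : (p - q) ^ t * (((t + 1 : ℕ) : k) * l - e * (p - q)) = 0 := by linear_combination h
  have e1' : (p - q') ^ t * (((t + 1 : ℕ) : k) * l - e * (p - q')) = 0 := by linear_combination h'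
  have f := (mul_eq_zero.mp e1).resolve_left (pow_ne_zero _ (sub_ne_zero.mpr hqp.symm))
  have f' := (mul_eq_zero.mp e1').resolve_left (pow_ne_zero _ (sub_ne_zero.mpr hq'p.symm))
  have he : e ≠ 0 := fun he => mul_ne_zero (Nat.cast_ne_zero.mpr (Nat.succ_ne_zero t)) (hl ▸ L_eval_ne r hp)
    (by rw [he] at f; linear_combination f)
  have : e * (q - q') = 0 := by linear_combination f - f'
  exact sub_eq_zero.mp ((mul_eq_zero.mp this).resolve_left he)

omit hr in
/-- The drop count for a decreasing chain and a hyperplane, when the pencil is not contained. -/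
theorem sum_high (V V₁ : Submodule k k[X]) [FiniteDimensional k V] (hV₁ : V₁ ≤ V)
    (h1 : Module.finrank k V₁ + 1 = Module.finrank k V) (T : ℕ → Submodule k k[X]) (hT : Antitone T) (N D : ℕ)
    (hD : N ≤ D + 1) (hz : ∀ n, N < n → V ⊓ T n = ⊥) (hpen : 2 ≤ N → ¬ V ⊓ T (N - 1) ≤ V₁) :
    ∃ ε : ℕ, ε ≤ 1 ∧ (∑ n ∈ Finset.range D, Module.finrank k ↥(V₁ ⊓ T (n + 1))) + ((N - 1) + ε) =
      ∑ n ∈ Finset.range D, Module.finrank k ↥(V ⊓ T (n + 1)) := by
  classical
  set δ : ℕ → ℕ := fun n => if V ⊓ T (n + 1) ≤ V₁ then 0 else 1 with hδ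
  have hsum : (∑ n ∈ Finset.range D, Module.finrank k ↥(V₁ ⊓ T (n + 1))) + ∑ n ∈ Finset.range D, δ n =
      ∑ n ∈ Finset.range D, Module.finrank k ↥(V ⊓ T (n + 1)) := by
    rw [← Finset.sum_add_distrib]
    refine Finset.sum_congr rfl fun n _ => ?_
    obtain ⟨hle, hlt⟩ := finrank_hyperplane V V₁ (T (n + 1)) hV₁ h1
    simp only [hδ]
    split_ifs with h
    · rw [hle h, Nat.add_zero]
    · exact hlt h
  have hδ0 : ∀ n, N ≤ n → δ n = 0 := fun n hn => by
    simp only [hδ, hz (n + 1) (by omega), bot_le, if_true]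
  have hδ1 : ∀ n, n + 1 < N → δ n = 1 := fun n hn => by
    simp only [hδ]
    rw [if_neg]
    exact fun h => hpen (by omega) (le_trans (inf_le_inf_left V (hT (by omega))) h)
  rcases Nat.eq_zero_or_pos N with hN0 | hN0
  · refine ⟨0, Nat.zero_le _, ?_⟩
    rw [Finset.sum_eq_zero (f := δ) fun n _ => hδ0 n (by omega)] at hsum
    omega
  have hhead : ∑ n ∈ Finset.range (N - 1), δ n = N - 1 := by
    rw [Finset.sum_congr rfl fun n hn => hδ1 n (by rw [Finset.mem_range] at hn; omega)]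
    simp
  rcases Nat.lt_or_ge D N with h | h
  · refine ⟨0, Nat.zero_le _, ?_⟩
    rw [show D = N - 1 by omega] at hsum ⊢
    rw [hhead] at hsum
    omega
  · refine ⟨δ (N - 1), by simp only [hδ]; split_ifs <;> omega, ?_⟩
    have hsplit : ∑ n ∈ Finset.range D, δ n = (N - 1) + δ (N - 1) := by
      rw [← Finset.sum_subset (Finset.range_subset_range.mpr h) fun n _ hn => hδ0 n (by
        rw [Finset.mem_range] at hn; omega)]
      rw [show N = N - 1 + 1 by omega, Finset.sum_range_succ, Nat.add_sub_cancel, hhead]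
    omega

end Groth.Agent.EffDiv52
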