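import Mathlib.Algebra.Polynomial.Derivative
import Mathlib.Algebra.Polynomial.Taylor
import Mathlib.RingTheory.Polynomial.Basic
import Mathlib.LinearAlgebra.FiniteDimensional.Lemmas
import Mathlib.Tactic

namespace Groth.Agent.EffDiv52

open Polynomial

variable {k : Type*} [Field k] {m : ℕ} (r : Fin m → k) (a : Fin m → ℕ)

/-- The radical `∏ (X - r_j)`. -/
noncomputable def L : k[X] := ∏ j, (X - C (r j))

/-- The product without the `i`-th factor. -/
noncomputable def Li (i : Fin m) : k[X] := ∏ j ∈ Finset.univ.erase i, (X - C (r j))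

/-- The numerator of the logarithmic derivative of `W0`. -/
noncomputable def E : k[X] := ∑ i, C (a i : k) * Li r i

/-- The polar polynomial. -/
noncomputable def W0 : k[X] := ∏ j, (X - C (r j)) ^ a j

/-- The differential operator `G ↦ W * (G / W0)'`. -/
noncomputable def Φ : k[X] →ₗ[k] k[X] :=
  (LinearMap.mulLeft k (L r)).comp derivative - LinearMap.mulLeft k (E r a)

/-- The space of the statements. -/
noncomputable def genV (b : ℕ) : Submodule k k[X] :=
  (degreeLT k b).map (LinearMap.mulLeft k (∏ j, (X - C (r j)) ^ (a j + 1))) ⊔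
      ⨆ i, (degreeLT k (a i)).map
        (LinearMap.mulLeft k (∏ j ∈ Finset.univ.erase i, (X - C (r j)) ^ (a j + 1)))

theorem Φ_apply (G : k[X]) : Φ r a G = L r * derivative G - E r a * G := rfl

theorem L_eq (i : Fin m) : L r = (X - C (r i)) * Li r i :=
  (Finset.mul_prod_erase _ _ (Finset.mem_univ i)).symm

theorem L_mul_derivative_prod (s : Finset (Fin m)) :
    L r * derivative (∏ j ∈ s, (X - C (r j)) ^ a j) =
      (∑ i ∈ s, C (a i : k) * Li r i) * ∏ j ∈ s, (X - C (r j)) ^ a j := by
  induction s using Finset.induction_on with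
  | empty => simp
  | insert i s hi ih =>
    rw [Finset.prod_insert hi, Finset.sum_insert hi, derivative_mul]
    have h : L r * derivative ((X - C (r i)) ^ a i) = C (a i : k) * Li r i * (X - C (r i)) ^ a i := by
      rw [derivative_pow, derivative_X_sub_C, mul_one, L_eq r i]
      cases ha : a i with
      | zero => simp
      | succ t => rw [Nat.add_sub_cancel, pow_succ]; ring
    rw [mul_add, ← mul_assoc, h, mul_left_comm, ih]
    ring

theorem Φ_W0 : Φ r a (W0 r a) = 0 := by
  rw [Φ_apply, sub_eq_zero, W0, E]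
  exact L_mul_derivative_prod r a Finset.univ

theorem W0_monic : (W0 r a).Monic := monic_prod_of_monic _ _ fun j _ => (monic_X_sub_C _).pow _

theorem natDegree_W0 : (W0 r a).natDegree = ∑ j, a j := by
  rw [W0, natDegree_prod_of_monic _ _ fun j _ => (monic_X_sub_C _).pow _]
  simp

theorem coeff_W0 : (W0 r a).coeff (∑ j, a j) = 1 := by
  rw [← natDegree_W0 r a]; exact W0_monic r a

theorem W0_eval_ne {q : k} (hq : ∀ j, q ≠ r j) : (W0 r a).eval q ≠ 0 := by
  rw [W0, eval_prod, Finset.prod_ne_zero_iff]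
  intro j _
  simp [sub_ne_zero.mpr (hq j)]

theorem L_eval_ne {q : k} (hq : ∀ j, q ≠ r j) : (L r).eval q ≠ 0 := by
  rw [L, eval_prod, Finset.prod_ne_zero_iff]
  intro j _
  simp [sub_ne_zero.mpr (hq j)]

variable {r}

theorem Li_eval_ne (hr : Function.Injective r) (i : Fin m) : (Li r i).eval (r i) ≠ 0 := by
  rw [Li, eval_prod, Finset.prod_ne_zero_iff]
  intro j hj
  simp [sub_ne_zero.mpr (hr.ne (Finset.ne_of_mem_erase hj).symm)]

theorem Li_eval_other (i j : Fin m) (h : j ≠ i) : (Li r j).eval (r i) = 0 := by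
  rw [Li, eval_prod]
  exact Finset.prod_eq_zero (Finset.mem_erase.mpr ⟨h.symm, Finset.mem_univ i⟩) (by simp)

theorem E_eval (i : Fin m) : (E r a).eval (r i) = (a i : k) * (Li r i).eval (r i) := by
  rw [E, eval_finsetSum, Finset.sum_eq_single i (fun j _ hj => by simp [Li_eval_other i j hj]) (by simp)]
  simp

theorem W0_eq (i : Fin m) :
    W0 r a = (X - C (r i)) ^ a i * ∏ j ∈ Finset.univ.erase i, (X - C (r j)) ^ a j :=
  (Finset.mul_prod_erase _ _ (Finset.mem_univ i)).symm

theorem taylor_mul_pow_coeff (q : k) (s : ℕ) (H : k[X]) :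
    (taylor q ((X - C q) ^ s * H)).coeff s = H.eval q := by
  rw [taylor_mul, taylor_pow, map_sub, taylor_X, taylor_C, add_sub_cancel_right,
    coeff_X_pow_mul', if_pos le_rfl, Nat.sub_self, taylor_coeff_zero]

theorem W0_taylor_ne (hr : Function.Injective r) (i : Fin m) :
    (taylor (r i) (W0 r a)).coeff (a i) ≠ 0 := by
  rw [W0_eq a i, taylor_mul_pow_coeff, eval_prod, Finset.prod_ne_zero_iff]
  intro j hj
  simp [sub_ne_zero.mpr (hr.ne (Finset.ne_of_mem_erase hj).symm)]

theorem pow_dvd_iff_le {q : k} {s n : ℕ} {H : k[X]} (hH : H.eval q ≠ 0) :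
    (X - C q) ^ n ∣ (X - C q) ^ s * H ↔ n ≤ s := by
  constructor
  · intro h
    by_contra hn
    push Not at hn
    apply hH
    obtain ⟨w, hw⟩ := h
    obtain ⟨t, rfl⟩ : ∃ t, n = s + (t + 1) := ⟨n - s - 1, by omega⟩
    rw [pow_add, mul_assoc] at hw
    rw [mul_left_cancel₀ (pow_ne_zero _ (X_sub_C_ne_zero q)) hw]
    simp
  · intro h
    exact (pow_dvd_pow _ h).trans (dvd_mul_right _ _)

theorem exists_factor (q : k) {G : k[X]} (hG : G ≠ 0) :
    ∃ (s : ℕ) (H : k[X]), G = (X - C q) ^ s * H ∧ H.eval q ≠ 0 := by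
  obtain ⟨H, h1, h2⟩ := exists_eq_pow_rootMultiplicity_mul_and_not_dvd G hG q
  exact ⟨_, H, h1, fun h => h2 (dvd_iff_isRoot.mpr h)⟩

variable [CharZero k]

theorem Φ_dvd_unmarked {q : k} (hq : ∀ j, q ≠ r j) {G : k[X]} (hG0 : G.eval q = 0) (n : ℕ) :
    (X - C q) ^ n ∣ Φ r a G ↔ (X - C q) ^ (n + 1) ∣ G := by
  by_cases hG : G = 0
  · simp [hG]
  obtain ⟨s, H, rfl, hH⟩ := exists_factor q hG
  obtain ⟨t, rfl⟩ : ∃ t, s = t + 1 := ⟨s - 1, by
    rcases Nat.eq_zero_or_pos s with rfl | h
    · simp at hG0; exact absurd hG0 hH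
    · omega⟩
  have e : Φ r a ((X - C q) ^ (t + 1) * H) = (X - C q) ^ t *
      (L r * (C ((t + 1 : ℕ) : k) * H + (X - C q) * derivative H) - E r a * ((X - C q) * H)) := by
    rw [Φ_apply, derivative_mul, derivative_pow, derivative_X_sub_C, mul_one, Nat.add_sub_cancel, pow_succ]
    ring
  rw [e, pow_dvd_iff_le, pow_dvd_iff_le hH, Nat.add_le_add_iff_right]
  simp only [eval_sub, eval_mul, eval_add, eval_C, eval_X, sub_self, zero_mul, add_zero, mul_zero, sub_zero]
  exact mul_ne_zero (L_eval_ne r hq) (mul_ne_zero (Nat.cast_ne_zero.mpr (Nat.succ_ne_zero t)) hH)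

theorem Φ_dvd_of_dvd (i : Fin m) {G : k[X]} {n : ℕ} (h : (X - C (r i)) ^ n ∣ G) :
    (X - C (r i)) ^ n ∣ Φ r a G := by
  obtain ⟨H, rfl⟩ := h
  rw [Φ_apply, derivative_mul, derivative_pow, derivative_X_sub_C, mul_one, L_eq r i]
  cases n with
  | zero => simp
  | succ t =>
    refine ⟨Li r i * (C ((t + 1 : ℕ) : k) * H + (X - C (r i)) * derivative H) - E r a * H, ?_⟩
    rw [Nat.add_sub_cancel, pow_succ]
    ring

theorem Φ_dvd_marked (hr : Function.Injective r) (i : Fin m) {G : k[X]}
    (hG0 : (taylor (r i) G).coeff (a i) = 0) (n : ℕ) :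
    (X - C (r i)) ^ n ∣ Φ r a G ↔ (X - C (r i)) ^ n ∣ G := by
  refine ⟨fun h => ?_, Φ_dvd_of_dvd a i⟩
  by_cases hG : G = 0
  · simp [hG]
  obtain ⟨s, H, rfl, hH⟩ := exists_factor (r i) hG
  have hs : s ≠ a i := fun hs => hH (by rw [← taylor_mul_pow_coeff (r i) s H, hs]; exact hs ▸ hG0)
  have e : Φ r a ((X - C (r i)) ^ s * H) = (X - C (r i)) ^ s *
      (Li r i * (C ((s : ℕ) : k) * H + (X - C (r i)) * derivative H) - E r a * H) := by
    rw [Φ_apply, derivative_mul, derivative_pow, derivative_X_sub_C, mul_one, L_eq r i]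
    cases s with
    | zero => simp; ring
    | succ t => rw [Nat.add_sub_cancel, pow_succ]; ring
  rw [e, pow_dvd_iff_le] at h
  · exact (pow_dvd_iff_le hH).mpr h
  simp only [eval_sub, eval_mul, eval_add, eval_C, eval_X, sub_self, zero_mul, add_zero, E_eval]
  rw [show (Li r i).eval (r i) * ((s : k) * H.eval (r i)) - (a i : k) * (Li r i).eval (r i) * H.eval (r i) =
    ((s : k) - (a i : k)) * ((Li r i).eval (r i) * H.eval (r i)) by ring]
  exact mul_ne_zero (sub_ne_zero.mpr (Nat.cast_injective.ne hs)) (mul_ne_zero (Li_eval_ne hr i) hH)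

theorem monic_Li (i : Fin m) : (Li r i).Monic := monic_prod_of_monic _ _ fun j _ => monic_X_sub_C _

theorem natDegree_Li (i : Fin m) : (Li r i).natDegree = m - 1 := by
  rw [Li, natDegree_prod_of_monic _ _ fun j _ => monic_X_sub_C _]
  simp

theorem natDegree_L : (L r).natDegree = m := by
  rw [L, natDegree_prod_of_monic _ _ fun j _ => monic_X_sub_C _]
  simp

theorem natDegree_E_le : (E r a).natDegree ≤ m - 1 :=
  natDegree_sum_le_of_forall_le _ _ fun i _ =>
    natDegree_mul_le.trans (by rw [natDegree_C, natDegree_Li, Nat.zero_add])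

theorem coeff_E : m ≠ 0 → (E r a).coeff (m - 1) = ((∑ j, a j : ℕ) : k) := by
  intro _
  rw [E, finsetSum_coeff, Nat.cast_sum]
  refine Finset.sum_congr rfl fun i _ => ?_
  rw [coeff_C_mul, ← natDegree_Li (r := r) i, (monic_Li i).coeff_natDegree, mul_one]

theorem Φ_natDegree {G : k[X]} (hG : G ≠ 0) (hA : G.coeff (∑ j, a j) = 0) :
    Φ r a G ≠ 0 ∧ (Φ r a G).natDegree + 1 = G.natDegree + m := by
  set s := G.natDegree with hs
  have hsA : s ≠ ∑ j, a j := fun h => leadingCoeff_ne_zero.mpr hG (by rw [leadingCoeff, ← hs, h, hA])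
  rcases Nat.eq_zero_or_pos m with hm | hm
  · subst hm
    have hs0 : 0 < s := by simp at hsA; omega
    rw [Φ_apply]
    simp only [L, E, Finset.univ_eq_empty, Finset.prod_empty, Finset.sum_empty, one_mul, zero_mul, sub_zero]
    have hd : (derivative G).natDegree = s - 1 := natDegree_derivative G
    refine ⟨fun h => ?_, by omega⟩
    have : G.natDegree = 0 := natDegree_eq_zero_of_derivative_eq_zero h
    omega
  have hcoeff : (Φ r a G).coeff (s + m - 1) = ((s : k) - ((∑ j, a j : ℕ) : k)) * G.leadingCoeff := by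
    rw [Φ_apply, coeff_sub]
    have h1 : (L r * derivative G).coeff (s + m - 1) = (s : k) * G.leadingCoeff := by
      rcases Nat.eq_zero_or_pos s with h0 | hpos
      · rw [hs] at h0
        rw [derivative_of_natDegree_zero h0, mul_zero, coeff_zero, show s = 0 from h0, Nat.cast_zero, zero_mul]
      · rw [show s + m - 1 = m + (s - 1) by omega,
          coeff_mul_add_eq_of_natDegree_le natDegree_L.le ((natDegree_derivative G).le),
          coeff_derivative, show s - 1 + 1 = s by omega]
        have hLm : (L r).Monic := monic_prod_of_monic _ _ fun j _ => monic_X_sub_C _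
        have hLc : (L r).coeff m = 1 := by
          have := hLm.coeff_natDegree
          rwa [natDegree_L] at this
        rw [hLc]
        rw [leadingCoeff, ← hs, Nat.cast_sub hpos, Nat.cast_one]
        ring
    rw [h1, show s + m - 1 = (m - 1) + s by omega,
      coeff_mul_add_eq_of_natDegree_le (natDegree_E_le a) (le_of_eq hs.symm), coeff_E a (by omega), leadingCoeff, ← hs]
    ring
  have hne : (Φ r a G).coeff (s + m - 1) ≠ 0 := by
    rw [hcoeff]
    exact mul_ne_zero (sub_ne_zero.mpr (Nat.cast_injective.ne hsA)) (leadingCoeff_ne_zero.mpr hG)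
  have hle : (Φ r a G).natDegree ≤ s + m - 1 := by
    rw [Φ_apply]
    refine (natDegree_sub_le _ _).trans (max_le ?_ (natDegree_mul_le.trans ?_))
    · rcases Nat.eq_zero_or_pos s with h0 | hpos
      · rw [derivative_of_natDegree_zero (hs.symm.trans h0)]; simp
      · refine natDegree_mul_le.trans ?_
        rw [natDegree_L, natDegree_derivative]; omega
    · have := natDegree_E_le (r := r) a; omega
  exact ⟨fun h => hne (by rw [h, coeff_zero]),
    by have := le_antisymm hle (le_natDegree_of_ne_zero hne); omega⟩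

theorem natDegree_W (b : ℕ) :
    (∏ j, (X - C (r j)) ^ (a j + 1)).natDegree + b = (∑ j, (a j + 1)) + b := by
  rw [natDegree_prod_of_monic _ _ fun j _ => (monic_X_sub_C _).pow _]
  simp

theorem gen_le (b : ℕ) : genV r a b ≤ (degreeLE k ↑((∑ j, a j) + b)).map (Φ r a) := by
  classical
  refine sup_le ?_ (iSup_le fun i => ?_)
  · rw [Submodule.map_le_iff_le_comap, degreeLT_eq_span_X_pow, Submodule.span_le]
    simp only [Finset.coe_image, Set.image_subset_iff]
    intro t ht
    simp only [Finset.coe_range, Set.mem_Iio] at ht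
    refine ⟨C ((t + 1 : k)⁻¹) * (X ^ (t + 1) * W0 r a), ?_, ?_⟩
    · rw [SetLike.mem_coe, mem_degreeLE, ← natDegree_le_iff_degree_le]
      refine (natDegree_C_mul_le _ _).trans (natDegree_mul_le.trans ?_)
      rw [natDegree_X_pow, natDegree_W0]; omega
    · show Φ r a _ = (∏ j, (X - C (r j)) ^ (a j + 1)) * X ^ t
      have hW : (∏ j, (X - C (r j)) ^ (a j + 1)) = L r * W0 r a := by
        rw [L, W0, ← Finset.prod_mul_distrib]
        exact Finset.prod_congr rfl fun j _ => pow_succ' _ _
      have h0 := Φ_W0 r a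
      rw [Φ_apply] at h0
      rw [hW, Φ_apply, derivative_C_mul, derivative_mul, derivative_X_pow, Nat.add_sub_cancel]
      have hc : C ((t + 1 : k)⁻¹) * C ((t + 1 : ℕ) : k) = 1 := by
        rw [← C_mul, Nat.cast_succ, inv_mul_cancel₀ (Nat.cast_add_one_ne_zero t), C_1]
      linear_combination (C ((t + 1 : k)⁻¹) * X ^ (t + 1)) * h0 + (X ^ t * L r * W0 r a) * hc
  · have hsurj : ∀ Q ∈ degreeLT k (a i), ∃ Cc ∈ degreeLT k (a i),
        (X - C (r i)) * derivative Cc - C (a i : k) * Cc = Q := by
      set T : k[X] →ₗ[k] k[X] := (LinearMap.mulLeft k (X - C (r i))).comp derivative -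
        LinearMap.mulLeft k (C (a i : k)) with hT
      have hmem : ∀ Q ∈ degreeLT k (a i), T Q ∈ degreeLT k (a i) := by
        intro Q hQ
        show (X - C (r i)) * derivative Q - C (a i : k) * Q ∈ degreeLT k (a i)
        refine Submodule.sub_mem _ ?_ ?_
        · rw [mem_degreeLT] at hQ ⊢
          rcases eq_or_ne Q.natDegree 0 with h0 | h0
          · simp [derivative_of_natDegree_zero h0]
          · rw [degree_lt_iff_coeff_zero]
            intro t ht
            refine coeff_eq_zero_of_natDegree_lt ?_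
            have hlt : Q.natDegree < a i := (natDegree_lt_iff_degree_lt (by intro h; simp [h] at h0)).mpr hQ
            have := natDegree_mul_le (p := X - C (r i)) (q := derivative Q)
            rw [natDegree_X_sub_C, natDegree_derivative] at this
            omega
        · rw [← smul_eq_C_mul]; exact Submodule.smul_mem _ _ hQ
      intro Q hQ
      have hinj : Function.Injective (T.restrict hmem) := by
        rw [injective_iff_map_eq_zero]
        rintro ⟨Cc, hC⟩ h
        have h' : (X - C (r i)) * derivative Cc - C (a i : k) * Cc = 0 := congrArg Subtype.val h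
        refine Subtype.ext ?_
        by_contra h0
        obtain ⟨s, H, rfl, hH⟩ := exists_factor (r i) h0
        have hsle : s < a i := by
          rw [mem_degreeLT] at hC
          have := (natDegree_lt_iff_degree_lt h0).mpr hC
          rw [natDegree_mul (pow_ne_zero _ (X_sub_C_ne_zero _)) (fun hH0 => hH (by simp [hH0])),
            natDegree_pow, natDegree_X_sub_C] at this
          omega
        have e : (X - C (r i)) ^ s * ((C (s : k) - C (a i : k)) * H + (X - C (r i)) * derivative H) = 0 := by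
          rw [← h', derivative_mul, derivative_pow, derivative_X_sub_C, mul_one]
          cases s with
          | zero => simp; ring
          | succ t => rw [Nat.add_sub_cancel, pow_succ]; ring
        have h2 := congrArg (eval (r i)) ((mul_eq_zero.mp e).resolve_left (pow_ne_zero _ (X_sub_C_ne_zero _)))
        simp [sub_ne_zero.mpr (Nat.cast_injective.ne hsle.ne), hH] at h2
      haveI : FiniteDimensional k (degreeLT k (a i)) := LinearEquiv.finiteDimensional (degreeLTEquiv k (a i)).symm
      obtain ⟨⟨Cc, hC⟩, hCe⟩ := LinearMap.surjective_of_injective hinj ⟨Q, hQ⟩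
      exact ⟨Cc, hC, congrArg Subtype.val hCe⟩
    rintro _ ⟨Q, hQ, rfl⟩
    obtain ⟨Cc, hC, rfl⟩ := hsurj Q hQ
    refine ⟨Cc * ∏ j ∈ Finset.univ.erase i, (X - C (r j)) ^ a j, ?_, ?_⟩
    · rw [SetLike.mem_coe, mem_degreeLE, ← natDegree_le_iff_degree_le]
      refine natDegree_mul_le.trans ?_
      rw [natDegree_prod_of_monic _ _ fun j _ => (monic_X_sub_C _).pow _]
      simp only [natDegree_pow, natDegree_X_sub_C, mul_one]
      have h1 := Finset.add_sum_erase Finset.univ a (Finset.mem_univ i)
      rcases eq_or_ne Cc 0 with rfl | h0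
      · simp only [natDegree_zero]; omega
      · have : Cc.natDegree < a i := (natDegree_lt_iff_degree_lt h0).mpr (mem_degreeLT.mp hC)
        omega
    · have h1 := L_mul_derivative_prod r a (Finset.univ.erase i)
      have hE : E r a = C (a i : k) * Li r i + ∑ j ∈ Finset.univ.erase i, C (a j : k) * Li r j :=
        (Finset.add_sum_erase _ _ (Finset.mem_univ i)).symm
      have hW : (∏ j ∈ Finset.univ.erase i, (X - C (r j)) ^ (a j + 1)) =
          Li r i * ∏ j ∈ Finset.univ.erase i, (X - C (r j)) ^ a j := by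
        rw [Li, ← Finset.prod_mul_distrib]
        exact Finset.prod_congr rfl fun j _ => pow_succ' _ _
      simp only [LinearMap.mulLeft_apply, hW, Φ_apply, derivative_mul, hE, L_eq r i]
      rw [L_eq r i] at h1
      linear_combination Cc * h1

omit [CharZero k] in
theorem finrank_degreeLT (n : ℕ) : Module.finrank k (degreeLT k n) = n := by
  rw [(degreeLTEquiv k n).finrank_eq, Module.finrank_fin_fun]

omit [CharZero k] in
theorem degreeLE_eq (N : ℕ) : degreeLE k (N : WithBot ℕ) = degreeLT k (N + 1) := by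
  ext p
  rw [mem_degreeLE, mem_degreeLT]
  constructor
  · intro h; exact h.trans_lt (by exact_mod_cast Nat.lt_succ_self N)
  · intro h
    rcases eq_or_ne p 0 with rfl | h0
    · simp
    · rw [← natDegree_le_iff_degree_le]; exact Nat.lt_succ_iff.mp ((natDegree_lt_iff_degree_lt h0).mpr h)

omit [CharZero k] in
theorem fin_degreeLT (n : ℕ) : FiniteDimensional k (degreeLT k n) :=
  LinearEquiv.finiteDimensional (degreeLTEquiv k n).symm

omit [CharZero k] in
theorem gen_finrank_ge (hr : Function.Injective r) (b : ℕ) :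
    (∑ j, a j) + b ≤ Module.finrank k (genV r a b) := by
  classical
  set W := ∏ j, (X - C (r j)) ^ (a j + 1) with hW
  set Wi : Fin m → k[X] := fun i => ∏ j ∈ Finset.univ.erase i, (X - C (r j)) ^ (a j + 1) with hWi
  haveI := fin_degreeLT (k := k)
  haveI hfV : FiniteDimensional k (genV r a b) := by unfold genV; infer_instance
  let Ψ : (degreeLT k b × ((i : Fin m) → degreeLT k (a i))) →ₗ[k] k[X] :=
    ((LinearMap.mulLeft k W).comp (degreeLT k b).subtype).comp (LinearMap.fst k _ _) +
      (∑ i, ((LinearMap.mulLeft k (Wi i)).comp (degreeLT k (a i)).subtype).comp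
        ((LinearMap.proj i).comp (LinearMap.snd k _ _)))
  have hΨ : ∀ x, Ψ x = W * (x.1 : k[X]) + ∑ i, Wi i * (x.2 i : k[X]) := fun x => by simp [Ψ]
  have hmem : ∀ x, Ψ x ∈ genV r a b := fun x => by
    rw [hΨ]
    exact Submodule.add_mem_sup ⟨_, x.1.2, rfl⟩
      (sum_mem fun i _ => Submodule.mem_iSup_of_mem i ⟨_, (x.2 i).2, rfl⟩)
  have hinj : Function.Injective (Ψ.codRestrict _ hmem) := by
    rw [injective_iff_map_eq_zero]
    intro x hx
    have h : W * (x.1 : k[X]) + ∑ i, Wi i * (x.2 i : k[X]) = 0 := by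
      rw [← hΨ]; exact congrArg Subtype.val hx
    have hCi : ∀ i, (x.2 i : k[X]) = 0 := by
      intro i
      have hd : (X - C (r i)) ^ (a i + 1) ∣ Wi i * (x.2 i : k[X]) := by
        rw [← Finset.add_sum_erase _ _ (Finset.mem_univ i)] at h
        have : Wi i * (x.2 i : k[X]) = -(W * (x.1 : k[X])) - ∑ j ∈ Finset.univ.erase i, Wi j * (x.2 j : k[X]) := by
          linear_combination h
        rw [this]
        refine dvd_sub ((Finset.dvd_prod_of_mem _ (Finset.mem_univ i)).mul_right _).neg_right
          (Finset.dvd_sum fun j hj => Dvd.dvd.mul_right ?_ _)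
        exact Finset.dvd_prod_of_mem (fun j => (X - C (r j)) ^ (a j + 1))
          (Finset.mem_erase.mpr ⟨(Finset.ne_of_mem_erase hj).symm, Finset.mem_univ i⟩)
      have hco : IsCoprime ((X - C (r i)) ^ (a i + 1)) (Wi i) := by
        refine IsCoprime.prod_right fun j hj => IsCoprime.pow ?_
        exact isCoprime_X_sub_C_of_isUnit_sub (sub_ne_zero.mpr (hr.ne (Finset.ne_of_mem_erase hj).symm)).isUnit
      have hd' := hco.dvd_of_dvd_mul_left hd
      by_contra h0
      have h1 := natDegree_le_of_dvd hd' h0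
      rw [natDegree_pow, natDegree_X_sub_C] at h1
      have h2 := (natDegree_lt_iff_degree_lt h0).mpr (mem_degreeLT.mp (x.2 i).2)
      omega
    simp only [hCi, mul_zero, Finset.sum_const_zero, add_zero] at h
    have hW0 : W ≠ 0 := (monic_prod_of_monic _ _ fun j _ => (monic_X_sub_C _).pow _).ne_zero
    exact Prod.ext (Subtype.ext ((mul_eq_zero.mp h).resolve_left hW0)) (funext fun i => Subtype.ext (hCi i))
  have := LinearMap.finrank_le_finrank_of_injective hinj
  rw [Module.finrank_prod, Module.finrank_pi_fintype, finrank_degreeLT] at this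
  simp only [finrank_degreeLT] at this
  omega

/-- A functional not vanishing on `W0` cuts out a section of `Φ`. -/
theorem normal_form (b : ℕ) (ℓ : k[X] →ₗ[k] k) (hℓ : ℓ (W0 r a) ≠ 0) :
    (degreeLE k ↑((∑ j, a j) + b)).map (Φ r a) = (degreeLE k ↑((∑ j, a j) + b) ⊓ LinearMap.ker ℓ).map (Φ r a) := by
  refine le_antisymm ?_ (Submodule.map_mono inf_le_left)
  rintro _ ⟨G, hG, rfl⟩
  refine ⟨G - (ℓ G / ℓ (W0 r a)) • W0 r a, ⟨Submodule.sub_mem _ hG (Submodule.smul_mem _ _ ?_), ?_⟩, ?_⟩
  · rw [mem_degreeLE, ← natDegree_le_iff_degree_le, natDegree_W0]; omega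
  · rw [SetLike.mem_coe, LinearMap.mem_ker, map_sub, map_smul, smul_eq_mul, div_mul_cancel₀ _ hℓ, sub_self]
  · rw [map_sub, map_smul, Φ_W0, smul_zero, sub_zero]

variable (b : ℕ)

theorem gen_eq (hr : Function.Injective r) : genV r a b = (degreeLE k ↑((∑ j, a j) + b)).map (Φ r a) := by
  haveI := fin_degreeLT (k := k) ((∑ j, a j) + b + 1)
  haveI : FiniteDimensional k (degreeLE k ↑((∑ j, a j) + b)) := by rw [degreeLE_eq]; infer_instance
  refine Submodule.eq_of_le_of_finrank_le (gen_le a b) ?_
  refine le_trans ?_ (gen_finrank_ge a hr b)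
  rw [normal_form a b (lcoeff k (∑ j, a j)) (by rw [lcoeff_apply, coeff_W0]; exact one_ne_zero)]
  set S := degreeLE k ↑((∑ j, a j) + b) ⊓ LinearMap.ker (lcoeff k (∑ j, a j))
  haveI : FiniteDimensional k S := Submodule.finiteDimensional_of_le inf_le_left
  refine (Submodule.finrank_map_le _ S).trans ?_
  have hlt : S < degreeLE k ↑((∑ j, a j) + b) := by
    refine lt_of_le_of_ne inf_le_left fun h => ?_
    have : (X : k[X]) ^ (∑ j, a j) ∈ degreeLE k ↑((∑ j, a j) + b) := by
      rw [mem_degreeLE, ← natDegree_le_iff_degree_le, natDegree_X_pow]; omega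
    rw [← h] at this
    simpa using this.2
  have := Submodule.finrank_lt_finrank_of_lt hlt
  rw [degreeLE_eq, finrank_degreeLT] at this
  omega

theorem injOn_ker {ℓ : k[X] →ₗ[k] k} (hℓ : ℓ (W0 r a) ≠ 0) (hr : Function.Injective r) :
    Function.Injective ((Φ r a).domRestrict (degreeLE k ↑((∑ j, a j) + b) ⊓ LinearMap.ker ℓ)) := by
  set S := degreeLE k ↑((∑ j, a j) + b) ⊓ LinearMap.ker ℓ with hS
  haveI := fin_degreeLT (k := k) ((∑ j, a j) + b + 1)
  haveI : FiniteDimensional k (degreeLE k ↑((∑ j, a j) + b)) := by rw [degreeLE_eq]; infer_instance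
  haveI : FiniteDimensional k S := Submodule.finiteDimensional_of_le inf_le_left
  have hlt : S < degreeLE k ↑((∑ j, a j) + b) := by
    refine lt_of_le_of_ne inf_le_left fun h => hℓ ?_
    have : W0 r a ∈ degreeLE k ↑((∑ j, a j) + b) := by
      rw [mem_degreeLE, ← natDegree_le_iff_degree_le, natDegree_W0]; omega
    rw [← h] at this
    exact this.2
  have h1 := Submodule.finrank_lt_finrank_of_lt hlt
  rw [degreeLE_eq, finrank_degreeLT] at h1
  have h2 := gen_finrank_ge a hr b
  rw [gen_eq a b hr, normal_form a b ℓ hℓ, ← LinearMap.range_domRestrict] at h2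
  have h3 := LinearMap.finrank_range_add_finrank_ker ((Φ r a).domRestrict S)
  rw [← LinearMap.ker_eq_bot, ← Submodule.finrank_eq_zero (R := k)]
  rw [← hS] at h2
  omega

end Groth.Agent.EffDiv52
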