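import Groth.Agent.EffDiv52.Basic

namespace Groth.Agent.EffDiv52

open Polynomial

variable {k : Type*} [Field k] {m : ℕ} {r : Fin m → k} (a : Fin m → ℕ) (b : ℕ)

/-- Multiples of `(X - q)^n`, as a subspace. -/
noncomputable abbrev multiples (q : k) (n : ℕ) : Submodule k k[X] :=
  (Ideal.span {(X - C q) ^ n}).restrictScalars k

theorem mem_multiples {q : k} {n : ℕ} {G : k[X]} : G ∈ multiples q n ↔ (X - C q) ^ n ∣ G := by
  rw [Submodule.restrictScalars_mem, Ideal.mem_span_singleton]

theorem fin_degreeLE (N : ℕ) : FiniteDimensional k (degreeLE k (N : WithBot ℕ)) := by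
  rw [degreeLE_eq]; exact fin_degreeLT _

theorem finrank_multiples (N n : ℕ) (q : k) :
    Module.finrank k ↥(degreeLE k (N : WithBot ℕ) ⊓ multiples q n) = N + 1 - n := by
  have h : degreeLE k (N : WithBot ℕ) ⊓ multiples q n =
      (degreeLT k (N + 1 - n)).map (LinearMap.mulLeft k ((X - C q) ^ n)) := by
    ext G
    constructor
    · rintro ⟨hG, hd⟩
      obtain ⟨H, rfl⟩ := mem_multiples.mp hd
      refine ⟨H, ?_, rfl⟩
      rw [SetLike.mem_coe, mem_degreeLT]
      rcases eq_or_ne H 0 with rfl | h0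
      · simpa using WithBot.bot_lt_coe (N + 1 - n)
      rw [← natDegree_lt_iff_degree_lt h0]
      rw [SetLike.mem_coe, mem_degreeLE, ← natDegree_le_iff_degree_le,
        natDegree_mul (pow_ne_zero _ (X_sub_C_ne_zero q)) h0, natDegree_pow, natDegree_X_sub_C, mul_one] at hG
      omega
    · rintro ⟨H, hH, rfl⟩
      refine ⟨?_, mem_multiples.mpr (dvd_mul_right _ _)⟩
      rw [SetLike.mem_coe, mem_degreeLE, ← natDegree_le_iff_degree_le]
      rcases eq_or_ne H 0 with rfl | h0
      · simp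
      show ((X - C q) ^ n * H).natDegree ≤ N
      have := (natDegree_lt_iff_degree_lt h0).mpr (mem_degreeLT.mp hH)
      rw [natDegree_mul (pow_ne_zero _ (X_sub_C_ne_zero q)) h0, natDegree_pow, natDegree_X_sub_C, mul_one]
      omega
  rw [h, ← (Submodule.equivMapOfInjective _
    (show Function.Injective (LinearMap.mulLeft k ((X - C q) ^ n)) from fun x y h => mul_left_cancel₀ (pow_ne_zero _ (X_sub_C_ne_zero q)) h) _).finrank_eq,
    finrank_degreeLT]

theorem finrank_inter_ker {M : Type*} [AddCommGroup M] [Module k M] (S : Submodule k M) [FiniteDimensional k S]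
    (ℓ : M →ₗ[k] k) {x : M} (hx : x ∈ S) (hℓ : ℓ x ≠ 0) :
    Module.finrank k ↥(S ⊓ LinearMap.ker ℓ) + 1 = Module.finrank k S := by
  have h := LinearMap.finrank_range_add_finrank_ker (ℓ.domRestrict S)
  have h1 : LinearMap.range (ℓ.domRestrict S) = ⊤ := LinearMap.range_eq_top.mpr fun c =>
    ⟨⟨(c / ℓ x) • x, S.smul_mem _ hx⟩, by
      show ℓ ((c / ℓ x) • x) = c
      rw [map_smul, smul_eq_mul, div_mul_cancel₀ _ hℓ]⟩
  rw [h1, finrank_top, Module.finrank_self] at h
  have e : LinearMap.ker (ℓ.domRestrict S) = (S ⊓ LinearMap.ker ℓ).comap S.subtype := by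
    ext y
    simp
  rw [e, (Submodule.comapSubtypeEquivOfLe (inf_le_left : S ⊓ LinearMap.ker ℓ ≤ S)).finrank_eq] at h
  omega

variable [CharZero k] (hr : Function.Injective r)

include hr

theorem inter_eq (ℓ : k[X] →ₗ[k] k) (hℓ : ℓ (W0 r a) ≠ 0) (Cond D : Submodule k k[X])
    (h : ∀ G ∈ degreeLE k ↑((∑ j, a j) + b), ℓ G = 0 → (Φ r a G ∈ Cond ↔ G ∈ D)) :
    Module.finrank k ↥(genV r a b ⊓ Cond) =
      Module.finrank k ↥((degreeLE k ↑((∑ j, a j) + b) ⊓ D) ⊓ LinearMap.ker ℓ) := by
  set S := degreeLE k ↑((∑ j, a j) + b) ⊓ LinearMap.ker ℓ with hS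
  have e : genV r a b ⊓ Cond = (D.comap S.subtype).map ((Φ r a).domRestrict S) := by
    rw [gen_eq a b hr, normal_form a b ℓ hℓ]
    ext P
    constructor
    · rintro ⟨⟨G, hG, rfl⟩, hC⟩
      exact ⟨⟨G, hG⟩, (h G hG.1 hG.2).mp hC, rfl⟩
    · rintro ⟨G, hD, rfl⟩
      exact ⟨⟨G, G.2, rfl⟩, (h G G.2.1 G.2.2).mpr hD⟩
  rw [e, ← (Submodule.equivMapOfInjective _ (injOn_ker a b hℓ hr) _).finrank_eq,
    (Submodule.equivMapOfInjective S.subtype (Submodule.injective_subtype S) _).finrank_eq,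
    Submodule.map_comap_subtype, hS, inf_right_comm]

theorem finrank_unmarked {q : k} (hq : ∀ j, q ≠ r j) (n : ℕ) :
    Module.finrank k ↥(genV r a b ⊓ multiples q n) = (∑ j, a j) + b - n := by
  have hℓ : (leval q : k[X] →ₗ[k] k) (W0 r a) ≠ 0 := W0_eval_ne r a hq
  rw [inter_eq a b hr (leval q) hℓ (multiples q n) (multiples q (n + 1)) (fun G _ h => by
    rw [mem_multiples, mem_multiples, Φ_dvd_unmarked a hq h])]
  have hsub : degreeLE k ↑((∑ j, a j) + b) ⊓ multiples q (n + 1) ≤ LinearMap.ker (leval q) := fun G hG => by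
    obtain ⟨H, rfl⟩ := mem_multiples.mp hG.2
    simp [LinearMap.mem_ker, leval]
  rw [inf_eq_left.mpr hsub, finrank_multiples]
  omega

theorem finrank_genV : Module.finrank k (genV r a b) = (∑ j, a j) + b := by
  haveI : Infinite k := Infinite.of_injective (Nat.cast : ℕ → k) Nat.cast_injective
  obtain ⟨q, hq⟩ := (Set.finite_range r).infinite_compl.nonempty
  have h := finrank_unmarked a b hr (q := q) (fun j e => hq ⟨j, e.symm⟩) 0
  rwa [Nat.sub_zero, show genV r a b ⊓ multiples q 0 = genV r a b from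
    inf_eq_left.mpr fun G _ => mem_multiples.mpr (by simp)] at h

theorem finrank_marked (i : Fin m) (n : ℕ) :
    Module.finrank k ↥(genV r a b ⊓ multiples (r i) n) =
      if n ≤ a i then (∑ j, a j) + b - n else (∑ j, a j) + b + 1 - n := by
  have hℓ : ((lcoeff k (a i)).comp (taylor (r i))) (W0 r a) ≠ 0 := W0_taylor_ne a hr i
  rw [inter_eq a b hr _ hℓ (multiples (r i) n) (multiples (r i) n) (fun G _ h => by
    rw [mem_multiples, mem_multiples, Φ_dvd_marked a hr i h])]
  haveI := fin_degreeLE (k := k) ((∑ j, a j) + b)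
  haveI : FiniteDimensional k ↥(degreeLE k ↑((∑ j, a j) + b) ⊓ multiples (r i) n) :=
    Submodule.finiteDimensional_of_le inf_le_left
  split_ifs with hn
  · have hai : a i ≤ ∑ j, a j := Finset.single_le_sum (fun j _ => Nat.zero_le _) (Finset.mem_univ i)
    have hx : (X - C (r i)) ^ a i ∈ degreeLE k ↑((∑ j, a j) + b) ⊓ multiples (r i) n := by
      refine ⟨?_, mem_multiples.mpr (pow_dvd_pow _ hn)⟩
      rw [SetLike.mem_coe, mem_degreeLE, ← natDegree_le_iff_degree_le, natDegree_pow, natDegree_X_sub_C]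
      omega
    have := finrank_inter_ker _ ((lcoeff k (a i)).comp (taylor (r i))) hx (by
      have := taylor_mul_pow_coeff (r i) (a i) (1 : k[X])
      rw [mul_one, eval_one] at this
      rw [LinearMap.comp_apply, lcoeff_apply, this]
      exact one_ne_zero)
    rw [finrank_multiples] at this
    omega
  · have hle : degreeLE k ↑((∑ j, a j) + b) ⊓ multiples (r i) n ≤
        LinearMap.ker ((lcoeff k (a i)).comp (taylor (r i))) := fun G hG => by
      obtain ⟨H, rfl⟩ := mem_multiples.mp hG.2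
      rw [LinearMap.mem_ker, LinearMap.comp_apply, lcoeff_apply, taylor_mul, taylor_pow, map_sub, taylor_X, taylor_C,
        add_sub_cancel_right, coeff_X_pow_mul', if_neg (by omega)]
    rw [inf_eq_left.mpr hle, finrank_multiples]

theorem finrank_infinity (n : ℕ) (d : ℕ) (hd : d + 1 = (∑ j, (a j + 1)) + b) :
    Module.finrank k ↥(genV r a b ⊓ degreeLT k (d + 1 - n)) =
      if n ≤ b then (∑ j, a j) + b - n else (∑ j, a j) + b + 1 - n := by
  have hA : ∑ j, (a j + 1) = (∑ j, a j) + m := by simp [Finset.sum_add_distrib]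
  have hℓ : (lcoeff k (∑ j, a j)) (W0 r a) ≠ 0 := by rw [lcoeff_apply, coeff_W0]; exact one_ne_zero
  rw [inter_eq a b hr _ hℓ (degreeLT k (d + 1 - n)) (degreeLT k ((∑ j, a j) + b + 1 - n)) (fun G hG h => by
    rcases eq_or_ne G 0 with rfl | h0
    · simp
    obtain ⟨h1, h2⟩ := Φ_natDegree (r := r) a h0 h
    rw [mem_degreeLT, mem_degreeLT, ← natDegree_lt_iff_degree_lt h1, ← natDegree_lt_iff_degree_lt h0]
    omega)]
  rw [degreeLE_eq, inf_eq_right.mpr (degreeLT_mono (by omega))]
  haveI := fin_degreeLT (k := k) ((∑ j, a j) + b + 1 - n)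
  split_ifs with hn
  · have hx : (X : k[X]) ^ (∑ j, a j) ∈ degreeLT k ((∑ j, a j) + b + 1 - n) := by
      rw [mem_degreeLT, degree_X_pow]; exact_mod_cast (by omega)
    have := finrank_inter_ker _ (lcoeff k (∑ j, a j)) hx (by simp)
    rw [finrank_degreeLT] at this
    omega
  · have hle : degreeLT k ((∑ j, a j) + b + 1 - n) ≤ LinearMap.ker (lcoeff k (∑ j, a j)) := fun G hG => by
      rw [LinearMap.mem_ker, lcoeff_apply]
      refine coeff_eq_zero_of_degree_lt ((mem_degreeLT.mp hG).trans_le ?_)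
      exact_mod_cast (by omega)
    rw [inf_eq_left.mpr hle, finrank_degreeLT]

omit hr in
theorem sum_dims (N a₀ D : ℕ) (ha : a₀ ≤ N) (hD : N ≤ D ∨ (D + 1 = N ∧ a₀ = N)) :
    ∑ n ∈ Finset.range D, (if n + 1 ≤ a₀ then N - (n + 1) else N + 1 - (n + 1)) = N.choose 2 + (N - a₀) := by
  have hterm : ∀ n ∈ Finset.range D, (if n + 1 ≤ a₀ then N - (n + 1) else N + 1 - (n + 1)) =
      (N - (n + 1)) + (if a₀ ≤ n ∧ n < N then 1 else 0) := by
    intro n _
    split_ifs <;> omega
  rw [Finset.sum_congr rfl hterm, Finset.sum_add_distrib, Finset.sum_boole]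
  congr 1
  · have : ∀ M D, M ≤ D + 1 → ∑ n ∈ Finset.range D, (M - (n + 1)) = M.choose 2 := by
      intro M
      induction M with
      | zero => intro D _; simp
      | succ M ih =>
        intro D hMD
        rcases D with _ | D
        · obtain rfl : M = 0 := by omega
          simp
        rw [Finset.sum_range_succ', Nat.choose_succ_succ', Nat.choose_one_right, ← ih D (by omega)]
        simp only [Nat.add_sub_add_right, Nat.sub_zero]
        omega
    exact this N D (by omega)
  · rw [show (Finset.range D).filter (fun n => a₀ ≤ n ∧ n < N) = Finset.Ico a₀ N from ?_, Nat.card_Ico]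
    · simp
    · ext n
      simp only [Finset.mem_filter, Finset.mem_range, Finset.mem_Ico]
      omega

omit hr in
/-- Intersections with a hyperplane. -/
theorem finrank_hyperplane {M : Type*} [AddCommGroup M] [Module k M] (V V₁ T : Submodule k M)
    [FiniteDimensional k V] (hV₁ : V₁ ≤ V) (h1 : Module.finrank k V₁ + 1 = Module.finrank k V) :
    (V ⊓ T ≤ V₁ → Module.finrank k ↥(V₁ ⊓ T) = Module.finrank k ↥(V ⊓ T)) ∧
      (¬ V ⊓ T ≤ V₁ → Module.finrank k ↥(V₁ ⊓ T) + 1 = Module.finrank k ↥(V ⊓ T)) := by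
  refine ⟨fun h => ?_, fun h => ?_⟩
  · rw [le_antisymm (le_inf h inf_le_right) (inf_le_inf_right T hV₁)]
  · haveI : FiniteDimensional k ↥(V₁ : Submodule k M) := Submodule.finiteDimensional_of_le hV₁
    haveI : FiniteDimensional k ↥(V ⊓ T) := Submodule.finiteDimensional_of_le inf_le_left
    have hsup : V₁ ⊔ V ⊓ T = V := by
      refine Submodule.eq_of_le_of_finrank_le (sup_le hV₁ inf_le_left) ?_
      haveI : FiniteDimensional k ↥(V₁ ⊔ V ⊓ T) := Submodule.finiteDimensional_of_le (sup_le hV₁ inf_le_left)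
      have hlt : V₁ < V₁ ⊔ V ⊓ T := left_lt_sup.mpr h
      have := Submodule.finrank_lt_finrank_of_lt hlt
      omega
    have h2 := Submodule.finrank_sup_add_finrank_inf_eq V₁ (V ⊓ T)
    rw [hsup, ← inf_assoc, inf_eq_left.mpr hV₁] at h2
    omega

end Groth.Agent.EffDiv52
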